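import Groth.Agent.GeomField.Irreducible
import Groth.Agent.GrpSchLib.GeomIrr

/-!
# Geometric irreducibility along open and surjective closed immersions
-/

open CategoryTheory CategoryTheory.Limits AlgebraicGeometry

set_option backward.isDefEq.respectTransparency false
set_option backward.isDefEq.respectTransparency.types false
set_option linter.style.haveILetI false

universe u

namespace Groth.Agent.GeomField18

variable {k : Type u} [Field k] {U X : Scheme.{u}}

/-- A nonempty open subscheme of a geometrically irreducible scheme is geometrically irreducible. -/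
theorem geometricallyIrreducible_comp_open (j : U ⟶ X) [IsOpenImmersion j] [Nonempty U]
    (f : X ⟶ Spec (CommRingCat.of k)) [GeometricallyIrreducible f] : GeometricallyIrreducible (j ≫ f) := by
  refine ⟨geometrically_iff_of_isClosedUnderIsomorphisms.mpr fun L _ x => ?_⟩
  haveI : IrreducibleSpace ↥(pullback f x) :=
    pullback_of_geometrically (GeometricallyIrreducible.geometrically_irreducibleSpace (f := f)) L x
  refine (pullbackRightPullbackFstIso f x j).hom.homeomorph.irreducibleSpace_iff.1 ?_
  let m := pullback.snd j (pullback.fst f x)
  haveI : IsOpenImmersion m := MorphismProperty.pullback_snd _ _ inferInstance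
  haveI : Nonempty ↥(pullback j (pullback.fst f x)) := by
    obtain ⟨u⟩ := ‹Nonempty U›
    obtain ⟨t, ht, -⟩ := Scheme.Pullback.exists_preimage_pullback (f := f) (g := x) (j u)
      (IsLocalRing.closedPoint L : Spec (CommRingCat.of L)) (Subsingleton.elim (α := PrimeSpectrum k) _ _)
    obtain ⟨s, -, -⟩ := Scheme.Pullback.exists_preimage_pullback (f := j) (g := pullback.fst f x) u t ht.symm
    exact ⟨s⟩
  rw [irreducibleSpace_def, Set.top_eq_univ, ← GeomField.isIrreducible_image_iff m.isEmbedding.isInducing, Set.image_univ]
  exact ⟨Set.range_nonempty _, (PreirreducibleSpace.isPreirreducible_univ).open_subset m.isOpenEmbedding.isOpen_range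
    (Set.subset_univ _)⟩

/-- A surjective closed subscheme of a geometrically irreducible scheme is geometrically irreducible. -/
theorem geometricallyIrreducible_comp_closed (i : U ⟶ X) [IsClosedImmersion i] [Surjective i]
    (f : X ⟶ Spec (CommRingCat.of k)) [GeometricallyIrreducible f] : GeometricallyIrreducible (i ≫ f) := by
  refine ⟨geometrically_iff_of_isClosedUnderIsomorphisms.mpr fun L _ x => ?_⟩
  haveI : IrreducibleSpace ↥(pullback f x) :=
    pullback_of_geometrically (GeometricallyIrreducible.geometrically_irreducibleSpace (f := f)) L x
  refine (pullbackRightPullbackFstIso f x i).hom.homeomorph.irreducibleSpace_iff.1 ?_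
  let m := pullback.snd i (pullback.fst f x)
  haveI : IsClosedImmersion m := MorphismProperty.pullback_snd _ _ inferInstance
  haveI : Surjective m := MorphismProperty.pullback_snd _ _ inferInstance
  rw [irreducibleSpace_def, Set.top_eq_univ, ← GeomField.isIrreducible_image_iff m.isEmbedding.isInducing, Set.image_univ,
    m.surjective.range_eq]
  exact IrreducibleSpace.isIrreducible_univ _

/-- A scheme with a dense geometrically irreducible open is geometrically irreducible. -/
theorem geometricallyIrreducible_of_dense_open (p : X ⟶ Spec (CommRingCat.of k)) (V : X.Opens)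
    (hV : Dense (V : Set X)) (h : GeometricallyIrreducible (V.ι ≫ p)) : GeometricallyIrreducible p := by
  refine GrpSchLib.geometricallyIrreducible_of_algClosure p ?_
  letI : X.Over (Spec (CommRingCat.of k)) := ⟨p⟩
  let g := Spec.map (CommRingCat.ofHom (algebraMap k (AlgebraicClosure k)))
  let q := pullback.fst p g
  let W : Set ↥(pullback p g) := q ⁻¹' (V : Set X)
  have hW : IsIrreducible W := by
    have h1 : W = Set.range (pullback.snd V.ι q) := by
      rw [Scheme.Pullback.range_snd, Scheme.Opens.range_ι]
    haveI : IrreducibleSpace ↥(pullback (V.ι ≫ p) g) :=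
      pullback_of_geometrically h.geometrically_irreducibleSpace (AlgebraicClosure k) _
    haveI : IrreducibleSpace ↥(pullback V.ι q) :=
      (pullbackRightPullbackFstIso p g V.ι).hom.homeomorph.irreducibleSpace_iff.2 inferInstance
    rw [h1, ← Set.image_univ]
    exact (IrreducibleSpace.isIrreducible_univ _).image _ (pullback.snd V.ι q).continuous.continuousOn
  have hd : Dense W :=
    hV.preimage (GeomField.isOpenMap_bcFst (k := k) (X := X) (AlgebraicClosure k))
  rw [irreducibleSpace_def, Set.top_eq_univ, ← hd.closure_eq]
  exact hW.closure

end Groth.Agent.GeomField18
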